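import Mathlib

/-! Sourour's factorisation: a non-scalar invertible matrix is, up to similarity, a product of a
lower and an upper triangular matrix with prescribed diagonals. -/

set_option autoImplicit false

namespace Cfsg.Agent.Sourour

open Matrix

variable {F : Type*} [Field F] {n : ℕ}

/-- A matrix split along its first row and column. -/
def blk (a : F) (u v : Fin n → F) (D : Matrix (Fin n) (Fin n) F) :
    Matrix (Fin (n + 1)) (Fin (n + 1)) F :=
  Matrix.of (Fin.cases (Fin.cases a u) fun i => Fin.cases (v i) (D i))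

@[simp] theorem blk_zero_zero (a : F) (u v : Fin n → F) (D : Matrix (Fin n) (Fin n) F) :
    blk a u v D 0 0 = a := rfl

@[simp] theorem blk_zero_succ (a : F) (u v : Fin n → F) (D : Matrix (Fin n) (Fin n) F) (j : Fin n) :
    blk a u v D 0 j.succ = u j := rfl

@[simp] theorem blk_succ_zero (a : F) (u v : Fin n → F) (D : Matrix (Fin n) (Fin n) F) (i : Fin n) :
    blk a u v D i.succ 0 = v i := rfl

@[simp] theorem blk_succ_succ (a : F) (u v : Fin n → F) (D : Matrix (Fin n) (Fin n) F)
    (i j : Fin n) : blk a u v D i.succ j.succ = D i j := rfl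

theorem eq_blk (A : Matrix (Fin (n + 1)) (Fin (n + 1)) F) :
    A = blk (A 0 0) (fun j => A 0 j.succ) (fun i => A i.succ 0)
      (Matrix.of fun i j => A i.succ j.succ) := by
  ext i j
  cases i using Fin.cases <;> cases j using Fin.cases <;> rfl

theorem blk_mul (a a' : F) (u u' v v' : Fin n → F) (D D' : Matrix (Fin n) (Fin n) F) :
    blk a u v D * blk a' u' v' D' =
      blk (a * a' + u ⬝ᵥ v') (fun j => a * u' j + (u ᵥ* D') j) (fun i => v i * a' + (D *ᵥ v') i)
        (Matrix.of fun i j => v i * u' j + (D * D') i j) := by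
  refine Matrix.ext fun i j => ?_
  rw [Matrix.mul_apply, Fin.sum_univ_succ]
  cases i using Fin.cases <;> cases j using Fin.cases <;>
    simp [dotProduct, Matrix.vecMul, Matrix.mulVec, Matrix.mul_apply]

theorem blk_one : blk (1 : F) (0 : Fin n → F) 0 1 = 1 := by
  refine Matrix.ext fun i j => ?_
  cases i using Fin.cases <;> cases j using Fin.cases <;>
    simp [Matrix.one_apply, Fin.succ_ne_zero, (Fin.succ_ne_zero _).symm]

theorem det_blk_lower (a : F) (v : Fin n → F) (D : Matrix (Fin n) (Fin n) F) :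
    (blk a 0 v D).det = a * D.det := by
  rw [Matrix.det_succ_row_zero, Fin.sum_univ_succ]
  simp
  exact Or.inl rfl

theorem det_blk_upper (a : F) (u : Fin n → F) (D : Matrix (Fin n) (Fin n) F) :
    (blk a u 0 D).det = a * D.det := by
  rw [Matrix.det_succ_column_zero, Fin.sum_univ_succ]
  simp
  exact Or.inl rfl

/-- The shear `[[1, φ], [0, 1]]`. -/
def shear (φ : Fin n → F) : GL (Fin (n + 1)) F :=
  ⟨blk 1 φ 0 1, blk 1 (-φ) 0 1,
    by rw [blk_mul, ← blk_one]; congr 1 <;> (try ext) <;> simp,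
    by rw [blk_mul, ← blk_one]; congr 1 <;> (try ext) <;> simp⟩

theorem blk_conj_shear (a : F) (u v : Fin n → F) (D : Matrix (Fin n) (Fin n) F) (φ : Fin n → F) :
    ((shear φ)⁻¹ : GL (Fin (n + 1)) F).val * blk a u v D * (shear φ).val =
      blk (a - φ ⬝ᵥ v) (fun j => (a - φ ⬝ᵥ v) * φ j + u j - (φ ᵥ* D) j) v
        (Matrix.of fun i j => v i * φ j + D i j) := by
  change blk 1 (-φ) 0 1 * blk a u v D * blk 1 φ 0 1 = _
  rw [blk_mul, blk_mul]
  congr 1
  · simp [sub_eq_add_neg]
  · ext j; simp [Matrix.neg_vecMul, sub_eq_add_neg, add_assoc]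
  · ext i; simp
  · ext i j; simp

/-- The block diagonal unit `diag(1, Q)`. -/
def lift (Q : GL (Fin n) F) : GL (Fin (n + 1)) F :=
  ⟨blk 1 0 0 Q.val, blk 1 0 0 (Q⁻¹).val,
    by rw [blk_mul, ← blk_one]; congr 1 <;> (try ext) <;> simp,
    by rw [blk_mul, ← blk_one]; congr 1 <;> (try ext) <;> simp⟩

theorem exists_not_eigen (A : Matrix (Fin n) (Fin n) F) (h : ∀ c : F, A ≠ Matrix.scalar (Fin n) c) :
    ∃ x : Fin n → F, x ≠ 0 ∧ ∀ c : F, A *ᵥ x ≠ c • x := by
  by_contra hc
  push Not at hc
  have hd : ∀ i, ∃ c : F, A *ᵥ Pi.single i 1 = c • Pi.single i 1 := fun i =>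
    hc _ (fun e => by simpa using congrFun e i)
  choose c hc' using hd
  rcases n with _ | m
  · exact h 0 (Subsingleton.elim _ _)
  refine h (c 0) ?_
  have hentry : ∀ k i, A k i = if k = i then c i else 0 := fun k i => by
    have := congrFun (hc' i) k
    simpa [Pi.single_apply] using this
  have heq : ∀ i, i ≠ 0 → c i = c 0 := by
    intro i hi
    obtain ⟨d, hd⟩ := hc (Pi.single i 1 + Pi.single 0 1) (fun e => by
      simpa [hi] using congrFun e i)
    rw [Matrix.mulVec_add, hc', hc'] at hd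
    have h1 := congrFun hd i
    have h2 := congrFun hd 0
    simp [hi, Ne.symm hi] at h1 h2
    rw [h1, h2]
  refine Matrix.ext fun k i => ?_
  rw [hentry]
  by_cases hki : k = i
  · subst hki
    by_cases hk : k = 0
    · subst hk; simp
    · simp [heq k hk]
  · simp [hki]

theorem exists_gl_col (x : Fin (n + 1) → F) (hx : x ≠ 0) :
    ∃ P : GL (Fin (n + 1)) F, P.val *ᵥ Pi.single 0 1 = x := by
  obtain ⟨i, hi⟩ := Function.ne_iff.1 hx
  set M : Matrix (Fin (n + 1)) (Fin (n + 1)) F :=
    ((1 : Matrix (Fin (n + 1)) (Fin (n + 1)) F).updateCol i x).submatrix id (Equiv.swap 0 i) with hM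
  have hdet : M.det ≠ 0 := by
    rw [hM, Matrix.det_permute', ← Matrix.cramer_apply, Matrix.cramer_one]
    rcases Int.units_eq_one_or (Equiv.Perm.sign (Equiv.swap (0 : Fin (n + 1)) i)) with e | e <;>
      simp [e] <;> simpa using hi
  refine ⟨Matrix.GeneralLinearGroup.mkOfDetNeZero M hdet, ?_⟩
  ext k
  simp [Matrix.GeneralLinearGroup.mkOfDetNeZero, hM]

theorem ne_scalar_conj {A : Matrix (Fin n) (Fin n) F} (h : ∀ c : F, A ≠ Matrix.scalar (Fin n) c)
    (P : GL (Fin n) F) : ∀ c : F, P⁻¹.val * A * P.val ≠ Matrix.scalar (Fin n) c := by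
  intro c e
  refine h c ?_
  calc A = P.val * (P⁻¹.val * A * P.val) * P⁻¹.val := by
        simp [← Matrix.mul_assoc]
    _ = Matrix.scalar (Fin n) c := by
        rw [e, ← (Matrix.scalar_commute c (fun r => mul_comm c r) P.val).eq]
        simp [Matrix.mul_assoc]

/-- A similar matrix with prescribed corner, non-zero column and a non-scalar Schur complement. -/
theorem exists_corner (A : Matrix (Fin (n + 1)) (Fin (n + 1)) F) (hdet : A.det ≠ 0)
    (h : ∀ c : F, A ≠ Matrix.scalar (Fin (n + 1)) c) (a : F) (ha : a ≠ 0) :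
    ∃ (P : GL (Fin (n + 1)) F) (u v : Fin n → F) (D : Matrix (Fin n) (Fin n) F),
      P⁻¹.val * A * P.val = blk a u v D ∧ v ≠ 0 ∧
      (2 ≤ n → ∀ c : F, (Matrix.of fun i j => D i j - v i * u j / a) ≠ Matrix.scalar (Fin n) c) := by
  obtain ⟨x, hx0, hx⟩ := exists_not_eigen A h
  obtain ⟨P₁, hP₁⟩ := exists_gl_col x hx0
  obtain ⟨a₀, u₀, v₀, D₀, hA₁⟩ : ∃ (a₀ : F) (u₀ v₀ : Fin n → F) (D₀ : Matrix (Fin n) (Fin n) F),
      P₁⁻¹.val * A * P₁.val = blk a₀ u₀ v₀ D₀ := ⟨_, _, _, _, eq_blk _⟩
  have hv₀ : v₀ ≠ 0 := by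
    intro hv
    refine hx a₀ ?_
    have e : A * P₁.val = P₁.val * blk a₀ u₀ v₀ D₀ := by
      rw [← hA₁]; simp [← Matrix.mul_assoc]
    have e2 : blk a₀ u₀ v₀ D₀ *ᵥ Pi.single 0 1 = a₀ • (Pi.single 0 1 : Fin (n + 1) → F) := by
      ext k
      cases k using Fin.cases <;> simp [hv]
    rw [← hP₁, Matrix.mulVec_mulVec, e, ← Matrix.mulVec_mulVec, e2, Matrix.mulVec_smul]
  obtain ⟨k, hk⟩ := Function.ne_iff.1 hv₀
  simp only [Pi.zero_apply] at hk
  set φ : Fin n → F := Pi.single k ((a₀ - a) / v₀ k) with hφ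
  obtain ⟨u₁, D₁, hA₂⟩ : ∃ (u₁ : Fin n → F) (D₁ : Matrix (Fin n) (Fin n) F),
      (P₁ * shear φ)⁻¹.val * A * (P₁ * shear φ).val = blk a u₁ v₀ D₁ := by
    have := blk_conj_shear a₀ u₀ v₀ D₀ φ
    rw [← hA₁, show a₀ - φ ⬝ᵥ v₀ = a by rw [hφ, single_dotProduct]; field_simp; ring] at this
    exact ⟨_, _, by rw [← this]; simp [_root_.mul_inv_rev, Units.val_mul, Matrix.mul_assoc]⟩
  by_cases hn : 2 ≤ n ∧ ∃ c : F, (Matrix.of fun i j => D₁ i j - v₀ i * u₁ j / a) = Matrix.scalar (Fin n) c
  · obtain ⟨hn2, s, hs⟩ := hn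
    have hD : ∀ i j, D₁ i j = (if i = j then s else 0) + v₀ i * u₁ j / a := fun i j => by
      have := congrFun (congrFun hs i) j
      simp only [Matrix.of_apply, Matrix.scalar_apply, Matrix.diagonal_apply] at this
      rw [← this]; ring
    obtain ⟨j, hj⟩ : ∃ j : Fin n, j ≠ k := by
      have : Nontrivial (Fin n) := Fin.nontrivial_iff_two_le.2 hn2
      exact exists_ne k
    set ψ : Fin n → F := Pi.single j (v₀ k) - Pi.single k (v₀ j) with hψ
    have hψv : ψ ⬝ᵥ v₀ = 0 := by simp [hψ, sub_dotProduct]; ring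
    have hψD : ψ ᵥ* D₁ = s • ψ := by
      ext m
      simp only [Matrix.vecMul, dotProduct, hD, Pi.smul_apply, smul_eq_mul, mul_add,
        Finset.sum_add_distrib]
      have : ∑ i, ψ i * (v₀ i * u₁ m / a) = 0 := by
        rw [Finset.sum_congr rfl (fun i _ => show ψ i * (v₀ i * u₁ m / a) = ψ i * v₀ i * (u₁ m / a) by ring),
          ← Finset.sum_mul]
        rw [show ∑ i, ψ i * v₀ i = 0 from hψv, zero_mul]
      rw [this, add_zero]
      simp [mul_comm]
    have hs0 : s ≠ 0 := by
      intro hs0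
      have hdet' : (blk a u₁ v₀ D₁).det ≠ 0 := by
        rw [← hA₂, Matrix.det_units_conj']
        exact hdet
      refine hdet' ?_
      rw [← Matrix.exists_vecMul_eq_zero_iff]
      refine ⟨Fin.cases (-(ψ ⬝ᵥ v₀) / a) ψ, ?_, ?_⟩
      · exact fun e => hk (by simpa [hψ, hj.symm] using congrFun e j.succ)
      · ext m
        rw [Matrix.vecMul, dotProduct, Fin.sum_univ_succ]
        cases m using Fin.cases with
        | zero =>
          have h0 : ∑ i, ψ i * v₀ i = 0 := hψv
          simp [dotProduct, h0]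
        | succ m =>
          have := congrFun hψD m
          simp [Matrix.vecMul, dotProduct] at this
          simp [hψv, this, hs0]
    refine ⟨P₁ * shear φ * shear ψ, fun j => a * ψ j + u₁ j - (ψ ᵥ* D₁) j, v₀,
      Matrix.of fun i j => v₀ i * ψ j + D₁ i j, ?_, hv₀, fun _ c hc => ?_⟩
    · have := blk_conj_shear a u₁ v₀ D₁ ψ
      rw [← hA₂, hψv, sub_zero] at this
      rw [← this]
      simp [_root_.mul_inv_rev, Units.val_mul, Matrix.mul_assoc]
    · have := congrFun (congrFun hc k) j
      have hψj : ψ j = v₀ k := by simp [hψ, hj]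
      simp only [Matrix.of_apply, congrFun hψD j, Pi.smul_apply, smul_eq_mul, hD, hψj] at this
      simp [Ne.symm hj] at this
      field_simp at this
      exact mul_ne_zero hs0 (pow_ne_zero 2 hk) (by linear_combination this)
  · exact ⟨_, _, _, _, hA₂, hv₀, fun h2 c hc => hn ⟨h2, c, hc⟩⟩

/-- Lower triangular matrices. -/
def IsLower (L : Matrix (Fin n) (Fin n) F) : Prop := ∀ i j, i < j → L i j = 0

/-- Upper triangular matrices. -/
def IsUpper (U : Matrix (Fin n) (Fin n) F) : Prop := ∀ i j, j < i → U i j = 0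

theorem isLower_blk (a : F) (v : Fin n → F) {D : Matrix (Fin n) (Fin n) F} (h : IsLower D) :
    IsLower (blk a 0 v D) := by
  intro i j hij
  cases i using Fin.cases with
  | zero => cases j using Fin.cases with
    | zero => exact absurd hij (lt_irrefl _)
    | succ j => simp
  | succ i => cases j using Fin.cases with
    | zero => exact absurd hij (Fin.not_lt_zero _)
    | succ j => simpa using h i j (Fin.succ_lt_succ_iff.1 hij)

theorem isUpper_blk (a : F) (u : Fin n → F) {D : Matrix (Fin n) (Fin n) F} (h : IsUpper D) :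
    IsUpper (blk a u 0 D) := by
  intro i j hij
  cases i using Fin.cases with
  | zero => exact absurd hij (Fin.not_lt_zero _)
  | succ i => cases j using Fin.cases with
    | zero => simp
    | succ j => simpa using h i j (Fin.succ_lt_succ_iff.1 hij)

theorem det_schur (a : F) (ha : a ≠ 0) (u v : Fin n → F) (D : Matrix (Fin n) (Fin n) F) :
    (blk a u v D).det = a * (Matrix.of fun i j => D i j - v i * u j / a).det := by
  have : blk a u v D = blk a 0 v 1 * blk 1 (fun j => u j / a) 0
      (Matrix.of fun i j => D i j - v i * u j / a) := by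
    rw [blk_mul]
    congr 1
    · simp
    · ext j; simp [mul_div_cancel₀ _ ha]
    · ext i; simp
    · ext i j; simp; field_simp; ring
  rw [this, Matrix.det_mul, det_blk_lower, det_blk_upper, Matrix.det_one, mul_one, one_mul]

/-- Sourour's theorem. -/
theorem exists_lu : ∀ (n : ℕ) (A : Matrix (Fin n) (Fin n) F), A.det ≠ 0 →
    (2 ≤ n → ∀ c : F, A ≠ Matrix.scalar (Fin n) c) → ∀ β γ : Fin n → F,
    (∏ i, β i) * ∏ i, γ i = A.det →
    ∃ (P : GL (Fin n) F) (L U : Matrix (Fin n) (Fin n) F), IsLower L ∧ IsUpper U ∧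
      (∀ i, L i i = β i) ∧ (∀ i, U i i = γ i) ∧ A = P.val * (L * U) * P⁻¹.val := by
  intro n
  induction n with
  | zero =>
    intro A _ _ β γ _
    exact ⟨1, A, A, fun i => i.elim0, fun i => i.elim0, fun i => i.elim0, fun i => i.elim0,
      Subsingleton.elim _ _⟩
  | succ n ih =>
    intro A hA hns β γ hp
    have hβγ : β 0 * γ 0 ≠ 0 := by
      intro h0
      rw [Fin.prod_univ_succ, Fin.prod_univ_succ] at hp
      exact hA (by rw [← hp]; rcases mul_eq_zero.1 h0 with h | h <;> rw [h] <;> ring)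
    obtain ⟨hβ, hγ⟩ := mul_ne_zero_iff.1 hβγ
    rcases Nat.eq_zero_or_pos n with hn | hn
    · subst hn
      refine ⟨1, Matrix.diagonal β, Matrix.diagonal γ, fun i j h => diagonal_apply_ne _ h.ne,
        fun i j h => diagonal_apply_ne _ h.ne', fun i => by simp, fun i => by simp, ?_⟩
      refine Matrix.ext fun i j => ?_
      obtain rfl : i = 0 := Fin.eq_zero i
      obtain rfl : j = 0 := Fin.eq_zero j
      simpa [Matrix.det_fin_one] using hp.symm
    obtain ⟨P, u, v, D, hP, -, hS⟩ := exists_corner A hA (hns (by omega)) (β 0 * γ 0) hβγ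
    set a := β 0 * γ 0 with ha
    set S : Matrix (Fin n) (Fin n) F := Matrix.of fun i j => D i j - v i * u j / a with hSdef
    have hdetS : a * S.det = A.det := by
      rw [← det_schur a hβγ u v D, ← hP, Matrix.det_units_conj']
    rw [Fin.prod_univ_succ, Fin.prod_univ_succ] at hp
    have hp' : (∏ i : Fin n, β i.succ) * ∏ i : Fin n, γ i.succ = S.det :=
      mul_left_cancel₀ hβγ (by rw [hdetS, ← hp, ha]; ring)
    obtain ⟨Q, L, U, hL, hU, hLd, hUd, hQ⟩ :=
      ih S (fun h0 => hA (by rw [← hdetS, h0, mul_zero])) hS _ _ hp'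
    refine ⟨P * lift Q, blk (β 0) 0 (fun i => (Q⁻¹.val *ᵥ v) i / γ 0) L,
      blk (γ 0) (fun j => (u ᵥ* Q.val) j / β 0) 0 U, isLower_blk _ _ hL, isUpper_blk _ _ hU,
      fun i => ?_, fun i => ?_, ?_⟩
    · cases i using Fin.cases with
      | zero => rfl
      | succ i => simpa using hLd i
    · cases i using Fin.cases with
      | zero => rfl
      | succ i => simpa using hUd i
    have key : blk (β 0) 0 (fun i => (Q⁻¹.val *ᵥ v) i / γ 0) L *
        blk (γ 0) (fun j => (u ᵥ* Q.val) j / β 0) 0 U =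
        (lift Q)⁻¹.val * blk a u v D * (lift Q).val := by
      change _ = blk 1 0 0 (Q⁻¹).val * blk a u v D * blk 1 0 0 Q.val
      rw [blk_mul, blk_mul, blk_mul]
      have hLU : L * U = Q⁻¹.val * S * Q.val := by rw [hQ]; simp [← Matrix.mul_assoc]
      congr 1
      · simp [ha]
      · ext j; simp [mul_div_cancel₀ _ hβ]
      · ext i; simp [div_mul_cancel₀ _ hγ]
      · have hD : D = S + Matrix.of fun i j => v i * (u j / a) := by
          ext i j; simp [hSdef]; ring
        ext i j
        simp only [Matrix.of_apply, hLU, Pi.zero_apply, zero_mul, mul_zero, add_zero, zero_add]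
        rw [hD, show (Matrix.of fun i j => v i * (u j / a)) = vecMulVec v (fun j => u j / a) from rfl]
        rw [Matrix.mul_add, Matrix.mul_vecMulVec]
        change _ = ((Q⁻¹.val * S + vecMulVec (Q⁻¹.val *ᵥ v) (fun j => u j / a)) * Q.val) i j
        rw [Matrix.add_mul, Matrix.vecMulVec_mul, Matrix.add_apply, vecMulVec_apply]
        have : ((fun j => u j / a) ᵥ* Q.val) j = (u ᵥ* Q.val) j / a := by
          simp [Matrix.vecMul, dotProduct, Finset.sum_div, div_mul_eq_mul_div]
        rw [this, ha]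
        field_simp
        ring
    rw [key, ← hP]
    simp [_root_.mul_inv_rev, Units.val_mul, ← Matrix.mul_assoc]

theorem det_lower {L : Matrix (Fin n) (Fin n) F} (h : IsLower L) : L.det = ∏ i, L i i :=
  Matrix.det_of_isLowerTriangular L fun i j hij => h i j hij

/-- A lower triangular matrix with distinct diagonal entries is diagonalisable. -/
theorem exists_diag_of_lower : ∀ (n : ℕ) (L : Matrix (Fin n) (Fin n) F) (d : Fin n → F),
    IsLower L → (∀ i, L i i = d i) → Function.Injective d →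
    ∃ P : GL (Fin n) F, L = P.val * Matrix.diagonal d * P⁻¹.val := by
  intro n
  induction n with
  | zero => exact fun L d _ _ _ => ⟨1, Subsingleton.elim _ _⟩
  | succ n ih =>
    intro L d hL hd hinj
    obtain ⟨a, u, v, D, rfl⟩ : ∃ (a : F) (u v : Fin n → F) (D : Matrix (Fin n) (Fin n) F),
        L = blk a u v D := ⟨_, _, _, _, eq_blk L⟩
    have ha : a = d 0 := hd 0
    have hu : u = 0 := funext fun j => hL 0 j.succ (Fin.succ_pos j)
    have hD : IsLower D := fun i j hij => hL i.succ j.succ (Fin.succ_lt_succ_iff.2 hij)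
    obtain ⟨Q, hQ⟩ := ih D (fun i => d i.succ) hD (fun i => hd i.succ)
      (hinj.comp (Fin.succ_injective n))
    set M : Matrix (Fin n) (Fin n) F := Matrix.scalar (Fin n) a - D with hM
    have hMdet : IsUnit M.det := by
      rw [isUnit_iff_ne_zero, det_lower (fun i j hij => by simp [hM, hij.ne, hD i j hij]),
        Finset.prod_ne_zero_iff]
      intro i _
      have h1 := hd i.succ
      simp at h1
      simp [hM, h1, ha, sub_eq_zero]
      exact fun e => Fin.succ_ne_zero i (hinj e).symm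
    set w : Fin n → F := M⁻¹ *ᵥ v with hw
    let R : GL (Fin (n + 1)) F := ⟨blk 1 0 w 1, blk 1 0 (-w) 1,
      by rw [blk_mul, ← blk_one]; congr 1 <;> (try ext) <;> simp,
      by rw [blk_mul, ← blk_one]; congr 1 <;> (try ext) <;> simp⟩
    refine ⟨R * lift Q, ?_⟩
    have hdiag : Matrix.diagonal d = blk (d 0) 0 0 (Matrix.diagonal fun i => d i.succ) := by
      refine Matrix.ext fun i j => ?_
      cases i using Fin.cases <;> cases j using Fin.cases <;>
        simp [Matrix.diagonal_apply, Fin.succ_ne_zero, (Fin.succ_ne_zero _).symm]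
    have hMw : M *ᵥ w = v := by rw [hw, Matrix.mulVec_mulVec, Matrix.mul_nonsing_inv M hMdet, one_mulVec]
    have hrhs : (R * lift Q).val * Matrix.diagonal d * ((R * lift Q)⁻¹).val =
        blk 1 0 w 1 * blk (d 0) 0 0 D * blk 1 0 (-w) 1 := by
      rw [hQ, hdiag, _root_.mul_inv_rev]
      change blk 1 0 w 1 * blk 1 0 0 Q.val * _ * (blk 1 0 0 (Q⁻¹).val * blk 1 0 (-w) 1) = _
      rw [← Matrix.mul_assoc]
      congr 1
      simp only [Matrix.mul_assoc]
      congr 1
      rw [blk_mul, blk_mul]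
      congr 1 <;> (try ext) <;> simp [Matrix.mul_assoc] <;> first | (simp [Matrix.mulVec, dotProduct]; done) | (simp [Matrix.mul_apply, Matrix.diagonal_apply]; done) | rfl
    rw [hrhs, blk_mul, blk_mul, hu, ← ha]
    congr 1
    · simp
    · ext j; simp
    · ext i
      simp [Matrix.mulVec_neg]
      rw [← hMw, hM]
      simp [Matrix.sub_mulVec]
      rw [show (Matrix.of fun i j => D i j) = D from rfl]
      ring
    · ext i j; simp

/-- An upper triangular matrix with distinct diagonal entries is diagonalisable. -/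
theorem exists_diag_of_upper (U : Matrix (Fin n) (Fin n) F) (d : Fin n → F) (hU : IsUpper U)
    (hd : ∀ i, U i i = d i) (hinj : Function.Injective d) :
    ∃ P : GL (Fin n) F, U = P.val * Matrix.diagonal d * P⁻¹.val := by
  obtain ⟨P, hP⟩ := exists_diag_of_lower n Uᵀ d (fun i j h => hU j i h) hd hinj
  refine ⟨⟨(P⁻¹).valᵀ, P.valᵀ, by rw [← Matrix.transpose_mul]; simp,
    by rw [← Matrix.transpose_mul]; simp⟩, ?_⟩
  have := congrArg Matrix.transpose hP
  rw [Matrix.transpose_transpose, Matrix.transpose_mul, Matrix.transpose_mul,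
    Matrix.diagonal_transpose] at this
  rw [this, Matrix.mul_assoc]
  rfl

end Cfsg.Agent.Sourour
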