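import Cfsg.Agent.Sourour.ThreeData

/-! The case of `SL_3` over the field with three elements. -/

set_option autoImplicit false

namespace Cfsg.Agent.Sourour

open Matrix

/-- A matrix from its code in base three. -/
def dec3 (k : ℕ) : Matrix (Fin 3) (Fin 3) (ZMod 3) :=
  Matrix.of fun i j => ((k / 3 ^ (3 * (i : ℕ) + (j : ℕ)) % 3 : ℕ) : ZMod 3)

/-- The normal form with code `t`. -/
def form3 (t : ℕ) : Matrix (Fin 3) (Fin 3) (ZMod 3) :=
  !![1, ((t % 3 : ℕ) : ZMod 3), ((t / 3 % 3 : ℕ) : ZMod 3);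
     1, ((t / 9 % 3 : ℕ) : ZMod 3), ((t / 27 % 3 : ℕ) : ZMod 3);
     0, ((t / 81 % 3 : ℕ) : ZMod 3), ((t / 243 % 3 : ℕ) : ZMod 3)]

/-- An element of order four. -/
def hThree : Matrix (Fin 3) (Fin 3) (ZMod 3) := !![1, 0, 0; 0, 0, 2; 0, 1, 0]

/-- The determinant, unfolded. -/
def det3 (A : Matrix (Fin 3) (Fin 3) (ZMod 3)) : ZMod 3 :=
  A 0 0 * A 1 1 * A 2 2 - A 0 0 * A 1 2 * A 2 1 - A 0 1 * A 1 0 * A 2 2
    + A 0 1 * A 1 2 * A 2 0 + A 0 2 * A 1 0 * A 2 1 - A 0 2 * A 1 1 * A 2 0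

theorem det3_eq (A : Matrix (Fin 3) (Fin 3) (ZMod 3)) : det3 A = A.det := (Matrix.det_fin_three A).symm

theorem threeCert_valid : ∀ e ∈ threeCert,
    det3 (dec3 e.2.1) = 1 ∧ det3 (dec3 e.2.2.2.1) = 1 ∧
      dec3 e.2.1 * dec3 e.2.2.1 = 1 ∧ dec3 e.2.2.2.1 * dec3 e.2.2.2.2 = 1 ∧
      form3 e.1 = dec3 e.2.1 * hThree * dec3 e.2.2.1 * (dec3 e.2.2.2.1 * hThree * dec3 e.2.2.2.2) := by
  decide +kernel

theorem threeCert_complete :
    ∀ t : Fin 729, det3 (form3 t.val) = 1 → t.val ∈ threeCert.map Prod.fst := by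
  decide +kernel

theorem form3_factor (t : ℕ) (ht : t < 729) (hd : (form3 t).det = 1)
    (h : Matrix.SpecialLinearGroup (Fin 3) (ZMod 3))
    (hh : (h : Matrix (Fin 3) (Fin 3) (ZMod 3)) = hThree) :
    ∃ x y : Matrix.SpecialLinearGroup (Fin 3) (ZMod 3),
      form3 t = ((x * h * x⁻¹) * (y * h * y⁻¹) : Matrix.SpecialLinearGroup (Fin 3) (ZMod 3)) := by
  obtain ⟨e, he, het⟩ := List.mem_map.1 (threeCert_complete ⟨t, ht⟩ (by rw [det3_eq]; exact hd))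
  obtain ⟨hp, hq, hpi, hqi, heq⟩ := threeCert_valid e he
  obtain ⟨x, hx⟩ : ∃ x : Matrix.SpecialLinearGroup (Fin 3) (ZMod 3),
      (x : Matrix (Fin 3) (Fin 3) (ZMod 3)) = dec3 e.2.1 := ⟨⟨_, (det3_eq _).symm.trans hp⟩, rfl⟩
  obtain ⟨y, hy⟩ : ∃ y : Matrix.SpecialLinearGroup (Fin 3) (ZMod 3),
      (y : Matrix (Fin 3) (Fin 3) (ZMod 3)) = dec3 e.2.2.2.1 := ⟨⟨_, (det3_eq _).symm.trans hq⟩, rfl⟩
  have inv_val : ∀ (z : Matrix.SpecialLinearGroup (Fin 3) (ZMod 3))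
      (Z : Matrix (Fin 3) (Fin 3) (ZMod 3)), (z : Matrix (Fin 3) (Fin 3) (ZMod 3)) * Z = 1 →
      ((z⁻¹ : Matrix.SpecialLinearGroup (Fin 3) (ZMod 3)) : Matrix (Fin 3) (Fin 3) (ZMod 3)) = Z := by
    intro z Z hz
    have h1 : ((z⁻¹ : Matrix.SpecialLinearGroup (Fin 3) (ZMod 3)) : Matrix (Fin 3) (Fin 3) (ZMod 3)) *
        (z : Matrix (Fin 3) (Fin 3) (ZMod 3)) = 1 := by
      rw [← Matrix.SpecialLinearGroup.coe_mul, inv_mul_cancel, Matrix.SpecialLinearGroup.coe_one]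
    rw [← Matrix.mul_one ((z⁻¹ : Matrix.SpecialLinearGroup (Fin 3) (ZMod 3)) : Matrix (Fin 3) (Fin 3) (ZMod 3)),
      ← hz, ← Matrix.mul_assoc, h1, Matrix.one_mul]
  refine ⟨x, y, ?_⟩
  simp only [Matrix.SpecialLinearGroup.coe_mul]
  rw [inv_val x _ (hx ▸ hpi), inv_val y _ (hy ▸ hqi), hx, hy, hh, ← heq]
  simp only at het
  rw [het]

theorem three_hit (g : Matrix.SpecialLinearGroup (Fin 3) (ZMod 3))
    (hg : ∀ c : ZMod 3, (g : Matrix (Fin 3) (Fin 3) (ZMod 3)) ≠ Matrix.scalar (Fin 3) c)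
    (h : Matrix.SpecialLinearGroup (Fin 3) (ZMod 3))
    (hh : (h : Matrix (Fin 3) (Fin 3) (ZMod 3)) = hThree) :
    ∃ x y : Matrix.SpecialLinearGroup (Fin 3) (ZMod 3), g = (x * h * x⁻¹) * (y * h * y⁻¹) := by
  haveI : Fact (Nat.Prime 3) := ⟨by norm_num⟩
  obtain ⟨P, u, v, D, hP, hv, -⟩ := exists_corner (g : Matrix (Fin 3) (Fin 3) (ZMod 3))
    (by rw [g.2]; exact one_ne_zero) hg 1 one_ne_zero
  obtain ⟨Q, hQ⟩ := exists_gl_col v hv
  obtain ⟨M, hM, h00, h10, h20⟩ : ∃ M : Matrix (Fin 3) (Fin 3) (ZMod 3),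
      M = (P * lift Q)⁻¹.val * (g : Matrix (Fin 3) (Fin 3) (ZMod 3)) * (P * lift Q).val ∧
        M 0 0 = 1 ∧ M 1 0 = 1 ∧ M 2 0 = 0 := by
    have hQv : Q⁻¹.val *ᵥ v = Pi.single 0 1 := by
      rw [← hQ, Matrix.mulVec_mulVec, Units.inv_mul, Matrix.one_mulVec]
    refine ⟨blk 1 0 0 (Q⁻¹).val * blk 1 u v D * blk 1 0 0 Q.val, ?_, ?_, ?_, ?_⟩
    · rw [← hP, _root_.mul_inv_rev]
      simp [Units.val_mul, Matrix.mul_assoc, lift]
    · rw [blk_mul, blk_mul, blk_zero_zero]; simp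
    · rw [blk_mul, blk_mul, show (1 : Fin 3) = Fin.succ 0 from rfl, blk_succ_zero]; simp; simpa [Matrix.mulVec, dotProduct, Fin.sum_univ_two] using congrFun hQv 0
    · rw [blk_mul, blk_mul, show (2 : Fin 3) = Fin.succ 1 from rfl, blk_succ_zero]; simp; simpa [Matrix.mulVec, dotProduct, Fin.sum_univ_two] using congrFun hQv 1
  set t := (M 0 1).val + 3 * (M 0 2).val + 9 * (M 1 1).val + 27 * (M 1 2).val + 81 * (M 2 1).val
    + 243 * (M 2 2).val with ht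
  have hl : ∀ a : ZMod 3, a.val < 3 := ZMod.val_lt
  have := hl (M 0 1); have := hl (M 0 2); have := hl (M 1 1); have := hl (M 1 2)
  have := hl (M 2 1); have := hl (M 2 2)
  have hMt : form3 t = M := by
    have hcast : ∀ (k : ℕ) (a : ZMod 3), k = a.val → (k : ZMod 3) = a := fun k a e => by
      rw [e, ZMod.natCast_zmod_val]
    ext i j
    fin_cases i <;> fin_cases j <;> simp only [form3, Fin.reduceFinMk, Fin.isValue,
      Matrix.of_apply, Matrix.cons_val] <;>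
      first
        | exact h00.symm | exact h10.symm | exact h20.symm
        | exact hcast _ _ (by omega)
  have hdM : M.det = 1 := by rw [hM, Matrix.det_units_conj', g.2]
  obtain ⟨x, y, hxy⟩ := form3_factor t (by omega) (hMt ▸ hdM) h hh
  have hd1 : hThree.det = 1 := by rw [← hh]; exact h.2
  obtain ⟨Z, hZ⟩ : ∃ Z : GL (Fin 3) (ZMod 3), Z = P * lift Q := ⟨_, rfl⟩
  have hconj : ∀ w : Matrix.SpecialLinearGroup (Fin 3) (ZMod 3),
      ∃ z : Matrix.SpecialLinearGroup (Fin 3) (ZMod 3),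
        ((z * h * z⁻¹ : Matrix.SpecialLinearGroup (Fin 3) (ZMod 3)) : Matrix (Fin 3) (Fin 3) (ZMod 3)) =
          Z.val * ((w * h * w⁻¹ : Matrix.SpecialLinearGroup (Fin 3) (ZMod 3)) :
            Matrix (Fin 3) (Fin 3) (ZMod 3)) * Z⁻¹.val := by
    intro w
    obtain ⟨c, hc⟩ : ∃ c : ZMod 3, c = (Z.val.det)⁻¹ := ⟨_, rfl⟩
    have hc0 : c ≠ 0 := by rw [hc]; exact inv_ne_zero Z.det.ne_zero
    set C : Matrix (Fin 3) (Fin 3) (ZMod 3) := Matrix.diagonal ![c, 1, 1] with hC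
    set Ci : Matrix (Fin 3) (Fin 3) (ZMod 3) := Matrix.diagonal ![c⁻¹, 1, 1] with hCi
    have hCC : C * Ci = 1 := by
      ext i j
      fin_cases i <;> fin_cases j <;>
        simp [hC, hCi, Matrix.mul_apply, Fin.sum_univ_three, Matrix.diagonal_apply, hc0]
    have hCdet : C.det = c := by simp [hC, Fin.prod_univ_three]
    have hCh : C * hThree = hThree * C := by
      ext i j
      fin_cases i <;> fin_cases j <;>
        simp [hC, hThree, Matrix.mul_apply, Fin.sum_univ_three, Matrix.diagonal_apply]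
    obtain ⟨z, hz⟩ : ∃ z : Matrix.SpecialLinearGroup (Fin 3) (ZMod 3),
        (z : Matrix (Fin 3) (Fin 3) (ZMod 3)) = Z.val * (w : Matrix (Fin 3) (Fin 3) (ZMod 3)) * C :=
      ⟨⟨_, by rw [Matrix.det_mul, Matrix.det_mul, w.2, hCdet, hc, mul_one,
        mul_inv_cancel₀ (show Z.val.det ≠ 0 from Z.det.ne_zero)]⟩, rfl⟩
    refine ⟨z, ?_⟩
    obtain ⟨T, hT⟩ : ∃ T : Matrix.SpecialLinearGroup (Fin 3) (ZMod 3),
        (T : Matrix (Fin 3) (Fin 3) (ZMod 3)) = Z.val * ((w * h * w⁻¹ : Matrix.SpecialLinearGroup (Fin 3) (ZMod 3)) :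
          Matrix (Fin 3) (Fin 3) (ZMod 3)) * Z⁻¹.val :=
      ⟨⟨_, by rw [Matrix.det_units_conj]; exact (w * h * w⁻¹).2⟩, rfl⟩
    rw [← hT]
    have hzw : (z * h : Matrix.SpecialLinearGroup (Fin 3) (ZMod 3)) = T * z := by
      apply Subtype.ext
      rw [Matrix.SpecialLinearGroup.coe_mul T z, hT]
      change ((z * h : Matrix.SpecialLinearGroup (Fin 3) (ZMod 3)) : Matrix (Fin 3) (Fin 3) (ZMod 3)) =
        Z.val * _ * Z⁻¹.val * (z : Matrix (Fin 3) (Fin 3) (ZMod 3))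
      have hw : ((w⁻¹ : Matrix.SpecialLinearGroup (Fin 3) (ZMod 3)) : Matrix (Fin 3) (Fin 3) (ZMod 3)) *
          (w : Matrix (Fin 3) (Fin 3) (ZMod 3)) = 1 := by
        rw [← Matrix.SpecialLinearGroup.coe_mul, inv_mul_cancel, Matrix.SpecialLinearGroup.coe_one]
      simp only [Matrix.SpecialLinearGroup.coe_mul, hz, hh]
      rw [Matrix.mul_assoc _ C hThree, hCh]
      simp only [Matrix.mul_assoc, Units.inv_mul_cancel_left]
      rw [← Matrix.mul_assoc ((w⁻¹ : Matrix.SpecialLinearGroup (Fin 3) (ZMod 3)) :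
        Matrix (Fin 3) (Fin 3) (ZMod 3)) (w : Matrix (Fin 3) (Fin 3) (ZMod 3)), hw, Matrix.one_mul]
    rw [hzw, mul_inv_cancel_right]
  obtain ⟨a, ha⟩ := hconj x
  obtain ⟨b, hb⟩ := hconj y
  refine ⟨a, b, Subtype.ext ?_⟩
  rw [Matrix.SpecialLinearGroup.coe_mul, ha, hb]
  have e0 : (g : Matrix (Fin 3) (Fin 3) (ZMod 3)) = Z.val * M * Z⁻¹.val := by
    rw [hM, hZ]; simp [← Matrix.mul_assoc]
  rw [e0, ← hMt, hxy, Matrix.SpecialLinearGroup.coe_mul]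
  simp [Matrix.mul_assoc]

/-- A class of elements of order dividing four whose square covers the non-scalar elements. -/
theorem sl_three_of_card_three {K : Type*} [Field K] [Fintype K] (hK : Fintype.card K = 3) :
    ∃ h : Matrix.SpecialLinearGroup (Fin 3) K, h ^ 4 = 1 ∧
      ∀ g : Matrix.SpecialLinearGroup (Fin 3) K,
        (∀ c : K, (g : Matrix (Fin 3) (Fin 3) K) ≠ Matrix.scalar (Fin 3) c) →
        ∃ x y : Matrix.SpecialLinearGroup (Fin 3) K, g = (x * h * x⁻¹) * (y * h * y⁻¹) := by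
  haveI : Fact (Nat.Prime 3) := ⟨by norm_num⟩
  set e : ZMod 3 ≃+* K := ZMod.ringEquivOfPrime K Nat.prime_three hK with he
  obtain ⟨h₀, hh₀⟩ : ∃ h₀ : Matrix.SpecialLinearGroup (Fin 3) (ZMod 3),
      (h₀ : Matrix (Fin 3) (Fin 3) (ZMod 3)) = hThree :=
    ⟨⟨hThree, by rw [← det3_eq]; decide +kernel⟩, rfl⟩
  set f := Matrix.SpecialLinearGroup.map (n := Fin 3) e.toRingHom with hf
  refine ⟨f h₀, ?_, fun g hg => ?_⟩
  · rw [← map_pow, show h₀ ^ 4 = 1 from ?_, map_one]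
    apply Subtype.ext
    rw [Matrix.SpecialLinearGroup.coe_pow, hh₀, Matrix.SpecialLinearGroup.coe_one]
    decide +kernel
  · set g₀ := Matrix.SpecialLinearGroup.map (n := Fin 3) e.symm.toRingHom g with hg₀
    have hfg : f g₀ = g := Subtype.ext (Matrix.ext fun i j => e.apply_symm_apply _)
    obtain ⟨x, y, hxy⟩ := three_hit g₀ (fun c hc => hg (e c) (Matrix.ext fun i j => by
      have := congrArg e (congrFun (congrFun hc i) j)
      rw [show e ((g₀ : Matrix (Fin 3) (Fin 3) (ZMod 3)) i j) = (g : Matrix (Fin 3) (Fin 3) K) i j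
        from e.apply_symm_apply _] at this
      rw [this]
      simp [Matrix.diagonal_apply, apply_ite e])) h₀ hh₀
    exact ⟨f x, f y, by rw [← hfg, hxy]; simp⟩

end Cfsg.Agent.Sourour
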