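import Cfsg.Agent.Sourour.Basic

/-! Products of two regular split classes cover the non-scalar elements of `SL_n`. -/

set_option autoImplicit false

namespace Cfsg.Agent.Sourour

open Matrix

variable {F : Type*} [Field F] {n : ℕ}

/-- The diagonal element of `SL_n` with given entries of product one. -/
def diagSL (d : Fin n → F) (h : ∏ i, d i = 1) : Matrix.SpecialLinearGroup (Fin n) F :=
  ⟨Matrix.diagonal d, by rw [Matrix.det_diagonal, h]⟩

@[simp] theorem coe_diagSL (d : Fin n → F) (h : ∏ i, d i = 1) :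
    ((diagSL d h : Matrix.SpecialLinearGroup (Fin n) F) : Matrix (Fin n) (Fin n) F) =
      Matrix.diagonal d := rfl

theorem exists_sl_conj_diag (g : Matrix.SpecialLinearGroup (Fin n) F) (d : Fin n → F)
    (h : ∏ i, d i = 1) (P : GL (Fin n) F)
    (e : (g : Matrix (Fin n) (Fin n) F) = P.val * Matrix.diagonal d * P⁻¹.val) :
    ∃ x : Matrix.SpecialLinearGroup (Fin n) F, g = x * diagSL d h * x⁻¹ := by
  rcases n with _ | m
  · exact ⟨1, Subtype.ext (Subsingleton.elim _ _)⟩
  set c : Fin (m + 1) → F := Function.update (fun _ => 1) 0 (P.val.det)⁻¹ with hc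
  have hdet : P.val.det ≠ 0 := P.det.ne_zero
  have hprod : ∏ i, c i = (P.val.det)⁻¹ := by
    rw [Fin.prod_univ_succ]
    simp [hc, Fin.succ_ne_zero]
  obtain ⟨x, hx⟩ : ∃ x : Matrix.SpecialLinearGroup (Fin (m + 1)) F,
      (x : Matrix (Fin (m + 1)) (Fin (m + 1)) F) = P.val * Matrix.diagonal c :=
    ⟨⟨P.val * Matrix.diagonal c, by rw [Matrix.det_mul, Matrix.det_diagonal, hprod,
      mul_inv_cancel₀ hdet]⟩, rfl⟩
  refine ⟨x, eq_mul_inv_iff_mul_eq.2 (Subtype.ext ?_)⟩
  rw [Matrix.SpecialLinearGroup.coe_mul, Matrix.SpecialLinearGroup.coe_mul, coe_diagSL, hx]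
  change (g : Matrix (Fin (m+1)) (Fin (m+1)) F) * (P.val * Matrix.diagonal c) =
    P.val * Matrix.diagonal c * Matrix.diagonal d
  rw [e, Matrix.mul_assoc P.val (Matrix.diagonal c), Matrix.diagonal_mul_diagonal,
    show (fun i => c i * d i) = fun i => d i * c i from funext fun i => mul_comm _ _,
    ← Matrix.diagonal_mul_diagonal]
  simp [Matrix.mul_assoc]

/-- A non-scalar element of `SL_n` is a product of conjugates of two given regular diagonal
elements. -/
theorem exists_conj_mul_conj (g : Matrix.SpecialLinearGroup (Fin n) F)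
    (hg : ∀ c : F, (g : Matrix (Fin n) (Fin n) F) ≠ Matrix.scalar (Fin n) c)
    (d e : Fin n → F) (hd : ∏ i, d i = 1) (he : ∏ i, e i = 1)
    (hdi : Function.Injective d) (hei : Function.Injective e) :
    ∃ x y : Matrix.SpecialLinearGroup (Fin n) F,
      g = (x * diagSL d hd * x⁻¹) * (y * diagSL e he * y⁻¹) := by
  obtain ⟨P, L, U, hL, hU, hLd, hUd, hA⟩ := exists_lu n (g : Matrix (Fin n) (Fin n) F)
    (by rw [g.2]; exact one_ne_zero) (fun _ => hg) d e (by rw [hd, he, g.2, mul_one])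
  obtain ⟨Q, hQ⟩ := exists_diag_of_lower n L d hL hLd hdi
  obtain ⟨R, hR⟩ := exists_diag_of_upper U e hU hUd hei
  set B : Matrix.SpecialLinearGroup (Fin n) F := ⟨(P * Q).val * Matrix.diagonal d * (P * Q)⁻¹.val,
    by rw [Matrix.det_units_conj, Matrix.det_diagonal, hd]⟩
  set C : Matrix.SpecialLinearGroup (Fin n) F := ⟨(P * R).val * Matrix.diagonal e * (P * R)⁻¹.val,
    by rw [Matrix.det_units_conj, Matrix.det_diagonal, he]⟩
  obtain ⟨x, hx⟩ := exists_sl_conj_diag B d hd (P * Q) rfl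
  obtain ⟨y, hy⟩ := exists_sl_conj_diag C e he (P * R) rfl
  refine ⟨x, y, ?_⟩
  rw [← hx, ← hy]
  apply Subtype.ext
  change (g : Matrix (Fin n) (Fin n) F) = (P * Q).val * Matrix.diagonal d * (P * Q)⁻¹.val *
    ((P * R).val * Matrix.diagonal e * (P * R)⁻¹.val)
  rw [hA, hQ, hR]
  simp [_root_.mul_inv_rev, Units.val_mul, Matrix.mul_assoc]

theorem ne_scalar_of_psl_ne_one (g : Matrix.SpecialLinearGroup (Fin n) F)
    (h : (QuotientGroup.mk g : Matrix.ProjectiveSpecialLinearGroup (Fin n) F) ≠ 1) :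
    ∀ c : F, (g : Matrix (Fin n) (Fin n) F) ≠ Matrix.scalar (Fin n) c := by
  intro c hc
  refine h ((QuotientGroup.eq_one_iff g).2 ?_)
  rw [Matrix.SpecialLinearGroup.mem_center_iff]
  refine ⟨c, ?_, hc.symm⟩
  have := g.2
  rw [hc] at this
  simpa using this

/-- Products of two conjugates in `PSL_n` from two conjugates in `SL_n`. -/
theorem psl_exists_conj_mul_conj {d e : Fin n → F} (hd : ∏ i, d i = 1) (he : ∏ i, e i = 1)
    (hdi : Function.Injective d) (hei : Function.Injective e)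
    (g : Matrix.ProjectiveSpecialLinearGroup (Fin n) F) (hg : g ≠ 1) :
    ∃ u v : Matrix.ProjectiveSpecialLinearGroup (Fin n) F,
      g = (u * QuotientGroup.mk (diagSL d hd) * u⁻¹) * (v * QuotientGroup.mk (diagSL e he) * v⁻¹) := by
  obtain ⟨g, rfl⟩ := QuotientGroup.mk_surjective g
  obtain ⟨x, y, h⟩ := exists_conj_mul_conj g (ne_scalar_of_psl_ne_one g hg) d e hd he hdi hei
  exact ⟨QuotientGroup.mk x, QuotientGroup.mk y, by rw [h]; simp⟩

end Cfsg.Agent.Sourour
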